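import Cfsg.Agent.LieRecognition.CoxForm
import Mathlib.Combinatorics.SimpleGraph.DegreeSum
import Cfsg.Agent.H519.Bld
import Cfsg.Agent.H388.EvenFixSylow
import Cfsg.Agent.FixBN.OfBN
import Cfsg.Agent.FixBN.Transport
import Cfsg.Agent.FastGrp
import Cfsg.Agent.Prune
set_option linter.all false
prune_inst 0x7f00000000000000000000000000000000000000000000000000000000000000000000000000000000000000000000000000000000000000000000000000000000000000000000000000000000000000003fffffffffffffffffffffffffffbeffbdffffffff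
open scoped Cfsg.Agent.FastGrp

-- part: H519/CoxTr
section
/-!
# Diagram automorphisms transitive on an odd number of nodes

`no_transitive` : if a diagram automorphism of a finite Coxeter group is transitive on the nodes and the number of the
nodes is odd, then there is no edge.
-/

set_option autoImplicit false
set_option linter.unusedSectionVars false

namespace Cfsg.Agent.H519.CoxTr

open Cfsg.Agent.LieRecognition.CoxForm

variable {I : Type*} [Fintype I] [DecidableEq I] {M : CoxeterMatrix I} {W : Type*} [Group W]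
  (cs : CoxeterSystem M W)

theorem K_two {a b : I} (h : M a b = 2) : K M a b = 0 := by
  unfold K
  rw [if_neg (by omega), h]
  norm_num

theorem K_le {a b : I} (hab : a ≠ b) (h : M a b ≠ 2) : K M a b ≤ -(1 / 2) := by
  unfold K
  split_ifs with h0
  · norm_num
  · have h1 : M a b ≠ 1 := fun h1 => M.off_diagonal a b hab h1
    have h3 : 3 ≤ M a b := by omega
    have h4 : (3 : ℝ) ≤ (M a b : ℝ) := by exact_mod_cast h3
    have h5 : Real.pi / (M a b : ℝ) ≤ Real.pi / 3 :=
      div_le_div_of_nonneg_left Real.pi_pos.le (by norm_num) h4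
    have h6 : Real.cos (Real.pi / 3) ≤ Real.cos (Real.pi / (M a b : ℝ)) := by
      apply Real.cos_le_cos_of_nonneg_of_le_pi (by positivity) _ h5
      have := Real.pi_pos
      linarith only [this]
    rw [Real.cos_pi_div_three] at h6
    linarith only [h6]

/-- the Coxeter graph -/
def gr (M : CoxeterMatrix I) : SimpleGraph I where
  Adj a b := a ≠ b ∧ M a b ≠ 2
  symm := ⟨fun a b h => ⟨h.1.symm, by rw [M.symmetric]; exact h.2⟩⟩
  loopless := ⟨fun a h => h.1 rfl⟩

theorem ip_sum [Fintype W] (x : I → ℝ) (s : Finset I) :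
    ip cs x (∑ a ∈ s, bs a) = ∑ a ∈ s, ip cs x (bs a) := by
  classical
  induction s using Finset.induction_on with
  | empty => simp only [ip, _root_.Finset.sum_empty, _root_.map_zero, _root_.Pi.zero_apply, _root_.MulZeroClass.mul_zero, _root_.Finset.sum_const_zero]
  | insert a s ha ih => rw [Finset.sum_insert ha, Finset.sum_insert ha, ip_add_right, ih]

theorem sum_bs : ∑ a : I, (bs a : I → ℝ) = fun _ => 1 := by
  funext b
  rw [Finset.sum_apply]
  simp only [bs, Pi.single_apply, _root_.Finset.sum_ite_eq, _root_.Finset.mem_univ, ↓ _root_.reduceIte]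

include cs in
/-- **A diagram automorphism of a finite Coxeter group transitive on an odd number of nodes.** -/
theorem no_transitive [Finite W] (σ : Equiv.Perm I) (hσM : ∀ i j, M (σ i) (σ j) = M i j)
    (htr : ∀ i j, σ.SameCycle i j) (hodd : Odd (Fintype.card I)) : ∀ i j, i ≠ j → M i j = 2 := by
  classical
  have hW : Fintype W := Fintype.ofFinite W
  have hI : Nonempty I := Fintype.card_pos_iff.1 hodd.pos
  obtain ⟨i0⟩ := hI
  -- the degrees are constant
  have hdeg1 : ∀ i, (gr M).degree (σ i) = (gr M).degree i := by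
    intro i
    rw [← SimpleGraph.card_neighborFinset_eq_degree, ← SimpleGraph.card_neighborFinset_eq_degree]
    refine (Finset.card_bij (fun j _ => σ j) ?_ ?_ ?_).symm
    · intro j hj
      rw [SimpleGraph.mem_neighborFinset] at hj ⊢
      exact ⟨fun h => hj.1 (σ.injective h), by rw [hσM]; exact hj.2⟩
    · intro j _ k _ h
      exact σ.injective h
    · intro j hj
      rw [SimpleGraph.mem_neighborFinset] at hj
      refine ⟨σ.symm j, ?_, σ.apply_symm_apply j⟩
      rw [SimpleGraph.mem_neighborFinset]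
      refine ⟨fun h => hj.1 ?_, fun h => hj.2 ?_⟩
      · rw [h, σ.apply_symm_apply]
      · have h1 := hσM i (σ.symm j)
        rw [σ.apply_symm_apply] at h1
        rw [h1, h]
  have hdeg : ∀ i, (gr M).degree i = (gr M).degree i0 := by
    intro i
    obtain ⟨n, rfl⟩ := htr i0 i
    induction n using Int.induction_on with
    | zero => rfl
    | succ n ih => rw [add_comm, zpow_add, zpow_one, Equiv.Perm.mul_apply, hdeg1, ih]
    | pred n ih =>
      have h1 := hdeg1 ((σ ^ (-(n : ℤ) - 1)) i0)
      rw [← Equiv.Perm.mul_apply, ← zpow_one_add] at h1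
      have h2 : (1 : ℤ) + (-(n : ℤ) - 1) = -(n : ℤ) := by ring
      rw [h2] at h1
      rw [← h1, ← ih]
  -- the degree is even
  have heven : Even ((gr M).degree i0) := by
    have h1 := (gr M).sum_degrees_eq_twice_card_edges
    rw [Finset.sum_congr rfl fun i _ => hdeg i, Finset.sum_const, Finset.card_univ, smul_eq_mul] at h1
    have h2 : Even (Fintype.card I * (gr M).degree i0) := ⟨_, by rw [h1, two_mul]⟩
    rcases Nat.even_mul.1 h2 with h3 | h3
    · exact absurd h3 (Nat.not_even_iff_odd.2 hodd)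
    · exact h3
  by_cases hd0 : (gr M).degree i0 = 0
  · intro i j hij
    by_contra h2
    have h3 : j ∈ (gr M).neighborFinset i := by
      rw [SimpleGraph.mem_neighborFinset]
      exact ⟨hij, h2⟩
    have h4 := Finset.card_pos.2 ⟨j, h3⟩
    rw [SimpleGraph.card_neighborFinset_eq_degree, hdeg, hd0] at h4
    omega
  · exfalso
    have hd2 : 2 ≤ (gr M).degree i0 := by
      obtain ⟨k, hk⟩ := heven
      omega
    -- the sum of all the simple roots
    set x : I → ℝ := fun _ => 1 with hx
    have hx0 : x ≠ 0 := fun h => one_ne_zero (congrFun h i0)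
    have hfn : ∀ a, fn M a x ≤ 0 := by
      intro a
      rw [fn_apply]
      have h1 : ∀ b, K M a b * x b ≤ (if b = a then 1 else 0) - (if b ∈ (gr M).neighborFinset a then (1 / 2 : ℝ) else 0) := by
        intro b
        rw [hx, mul_one]
        by_cases hba : b = a
        · subst hba
          rw [if_pos rfl, if_neg (by rw [SimpleGraph.mem_neighborFinset]; exact SimpleGraph.irrefl _), K_self]
          norm_num
        · rw [if_neg hba]
          by_cases h2 : M a b = 2
          · rw [if_neg (by rw [SimpleGraph.mem_neighborFinset]; exact fun h => h.2 h2), K_two h2]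
            norm_num
          · rw [if_pos (by rw [SimpleGraph.mem_neighborFinset]; exact ⟨fun h => hba h.symm, h2⟩)]
            have := K_le (M := M) (fun h => hba h.symm) h2
            linarith only [this]
      refine (Finset.sum_le_sum fun b _ => h1 b).trans ?_
      rw [Finset.sum_sub_distrib, Finset.sum_ite_eq' Finset.univ a, if_pos (Finset.mem_univ a),
        Finset.sum_ite_mem, Finset.univ_inter, Finset.sum_const, SimpleGraph.card_neighborFinset_eq_degree, hdeg]
      have h2 : (2 : ℝ) ≤ ((gr M).degree i0 : ℝ) := by exact_mod_cast hd2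
      rw [nsmul_eq_mul]
      linarith only [h2]
    have h1 := ip_pos cs x hx0
    have h2 : ip cs x x = ∑ a : I, fn M a x * ip cs (bs a) (bs a) := by
      have h3 : ip cs x x = ip cs x (∑ a : I, bs a) := by rw [sum_bs]
      rw [h3, ip_sum]
      refine Finset.sum_congr rfl fun a _ => ?_
      rw [ip_comm, ip_bs]
    rw [h2] at h1
    have h3 : ∑ a : I, fn M a x * ip cs (bs a) (bs a) ≤ 0 := by
      apply Finset.sum_nonpos
      intro a _
      apply mul_nonpos_of_nonpos_of_nonneg (hfn a)
      have hb : (bs a : I → ℝ) ≠ 0 := by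
        intro h
        have := congrFun h a
        simp [bs] at this
      exact (ip_pos cs _ hb).le
    linarith only [h1, h3]

end Cfsg.Agent.H519.CoxTr
end

-- part: H519/BldOdd
section
/-!
# Coprime automorphisms with commutators of odd order: odd characteristic, rank at least two

* `stabRes` : the stabiliser of a residue;
* `odd_core_fix` : a subgroup of odd order normalised by `U x` fixes `x`;
* `fix_res` : an invariant residue containing a fixed chamber is fixed chamberwise (induction hypothesis for its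
  stabiliser);
* `eq_one_of_rank` : the automorphism is trivial, if the rank is at least two.
-/

set_option autoImplicit false
set_option linter.unusedSectionVars false

namespace Cfsg.Agent.H519.Bld

open Cfsg Cfsg.Agent.Tits.Core Cfsg.Agent.Tits.Core.Bldg Cfsg.Agent.Tits.OppRes Cfsg.Agent.Tits.Rigid
open Cfsg.Agent.FixBN (Sys)
open Cfsg.Agent.FixOdd (Tw)
open Cfsg.Agent.H519.CopRed

variable {I : Type*} {M : CoxeterMatrix I} {W : Type*} [Group W] {cs : CoxeterSystem M W} {C : Type*}
  {Δ : Bldg cs C} {G : Type*} [Group G] [MulAction G C] {p : ℕ}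

local prefix:100 "ℓ" => cs.length

/-- the stabiliser of a residue -/
def stabRes (S : Sys Δ G p) (J : Set I) (x : C) : Subgroup G where
  carrier := {g | g • x ∈ Δ.Res J x}
  one_mem' := by
    change (1 : G) • x ∈ Δ.Res J x
    rw [one_smul]; exact Δ.self_mem_Res J x
  mul_mem' := fun {a b} (ha : a • x ∈ Δ.Res J x) (hb : b • x ∈ Δ.Res J x) => by
    change (a * b) • x ∈ Δ.Res J x
    rw [mul_smul]
    refine Δ.mem_Res_trans ha ?_
    rw [mem_Res, S.iso]
    exact hb
  inv_mem' := fun {a} (ha : a • x ∈ Δ.Res J x) => by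
    change a⁻¹ • x ∈ Δ.Res J x
    rw [mem_Res, ← S.iso a, smul_inv_smul]
    exact Δ.mem_Res_symm ha

variable {S : Sys Δ G p}

theorem mem_stabRes {J : Set I} {x : C} {g : G} : g ∈ stabRes S J x ↔ g • x ∈ Δ.Res J x := Iff.rfl

theorem U_le_stabRes {J : Set I} {x : C} {u : G} (hu : u ∈ S.U x) : u ∈ stabRes S J x := by
  rw [mem_stabRes, S.fix x u hu]
  exact Δ.self_mem_Res J x

/-- the number of chambers of a panel is even, in odd characteristic -/
theorem even_ncard_pan [Finite G] [hp : Fact p.Prime] (hp2 : p ≠ 2) (hth : Δ.Thick) (hU : UTrans S) (x : C) (i : I) :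
    2 ∣ (Δ.Pan i x).ncard := by
  obtain ⟨z, -, -, hz, -⟩ := hth x i
  have h1 : Δ.Pan i x = insert x (MulAction.orbit (S.U x) z) := by
    ext c
    rw [Set.mem_insert_iff, mem_Pan]
    refine or_congr Iff.rfl ⟨fun hc => ?_, ?_⟩
    · obtain ⟨u, hu, huc⟩ := hU x z c (hz.trans hc.symm)
      exact ⟨⟨u, hu⟩, huc⟩
    · rintro ⟨⟨u, hu⟩, rfl⟩
      change Δ.δ x (u • z) = cs.simple i
      rw [← hz]
      conv_lhs => rw [← S.fix x u hu]
      exact S.iso u x z
  have hx : x ∉ MulAction.orbit (S.U x) z := by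
    rintro ⟨⟨u, hu⟩, huc⟩
    have h2 : u • z = u • x := huc.trans (S.fix x u hu).symm
    exact Δ.ne_of_δ_simple hz (smul_left_cancel u h2).symm
  have hfin : (MulAction.orbit (S.U x) z).Finite := Set.finite_range _
  obtain ⟨n, hn⟩ := (S.isP x).index (MulAction.stabilizer (S.U x) z)
  rw [MulAction.index_stabilizer] at hn
  rw [h1, Set.ncard_insert_of_notMem hx hfin, hn]
  have h2 : Odd (p ^ n) := (hp.1.odd_of_ne_two hp2).pow
  obtain ⟨k, hk⟩ := h2
  exact ⟨k + 1, by rw [hk]; ring⟩

include S in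
/-- a group transitive on a panel -/
theorem ncard_pan_dvd [Finite G] {R : Subgroup G} {x : C} {i : I} (h : ∀ y ∈ Δ.Pan i x, ∃ r ∈ R, r • x = y) :
    (Δ.Pan i x).ncard ∣ Nat.card R := by
  have h1 : MulAction.orbit (R ⊓ stabRes S {i} x : Subgroup G) x = Δ.Pan i x := by
    ext c
    constructor
    · rintro ⟨⟨r, hr⟩, rfl⟩
      rw [Bldg.Pan_eq_Res]
      exact hr.2
    · intro hc
      obtain ⟨r, hr, hrc⟩ := h c hc
      refine ⟨⟨r, hr, ?_⟩, hrc⟩
      change r • x ∈ Δ.Res {i} x
      rw [hrc, ← Bldg.Pan_eq_Res]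
      exact hc
  rw [← h1, ← MulAction.index_stabilizer]
  exact (Subgroup.index_dvd_card _).trans (Subgroup.card_dvd_of_le inf_le_left)

/-- **A subgroup of odd order normalised by `U x` fixes `x`** -/
theorem odd_core_fix [Finite G] [hp : Fact p.Prime] (hp2 : p ≠ 2) (hth : Δ.Thick) (hU : UTrans S) {x : C}
    {R : Subgroup G} (hR : (Nat.card R).Coprime 2) (hn : ∀ u ∈ S.U x, ∀ r ∈ R, u * r * u⁻¹ ∈ R) :
    ∀ r ∈ R, r • x = x := by
  intro r hr
  by_contra hne
  obtain ⟨i, y', h1, h2, h3⟩ := exists_other (Δ := Δ) hth (x := x) (y := r • x) fun h => hne h.symm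
  obtain ⟨u, hu, huy⟩ := hU x (r • x) y' h3.symm
  -- an element of `R` moving `x` to an adjacent chamber
  have hy' : (u * r * u⁻¹) • x = y' := by
    rw [mul_smul, mul_smul]
    have h4 : u⁻¹ • x = x := by rw [inv_smul_eq_iff, S.fix x u hu]
    rw [h4, huy]
  have hr1 := hn u hu r hr
  set r1 := u * r * u⁻¹ with hr1d
  have hz : Δ.δ x ((r⁻¹ * r1) • x) = cs.simple i := by
    rw [mul_smul, hy', ← S.iso r, smul_inv_smul]
    exact h2
  have hr2 : r⁻¹ * r1 ∈ R := mul_mem (inv_mem hr) hr1
  have hall : ∀ y ∈ Δ.Pan i x, ∃ r ∈ R, r • x = y := by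
    intro y hy
    rcases hy with rfl | hy
    · exact ⟨1, one_mem _, one_smul _ _⟩
    · obtain ⟨v, hv, hvy⟩ := hU x _ y (hz.trans hy.symm)
      refine ⟨v * (r⁻¹ * r1) * v⁻¹, hn v hv _ hr2, ?_⟩
      rw [mul_smul, mul_smul _ (r⁻¹ * r1)]
      have h4 : v⁻¹ • x = x := by rw [inv_smul_eq_iff, S.fix x v hv]
      rw [h4, hvy]
  have h4 := (even_ncard_pan (S := S) hp2 hth hU x i).trans (ncard_pan_dvd (S := S) hall)
  have h5 := Nat.dvd_gcd h4 (dvd_refl 2)
  rw [hR] at h5
  omega

/-- **An invariant residue containing a fixed chamber is fixed chamberwise.** -/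
theorem fix_res [Finite G] [Finite I] [hp : Fact p.Prime] (hp2 : p ≠ 2) (hth : Δ.Thick) (hU : UTrans S)
    (hG : ∀ x y : C, ∃ g : G, g • x = y) (t : Tw Δ G) (hc : (orderOf t.τ).Coprime (Nat.card G)) (ho : OddC t.τ)
    {J : Set I} (hJ : t.Stab J) {x : C} (hx : t.θ x = x) (hR : _root_.Cfsg.Agent.H519.CopRed.Res (stabRes S J x)) :
    ∀ y ∈ Δ.Res J x, t.θ y = y := by
  intro y hy
  set H := stabRes S J x with hH
  have hinv : H.map t.τ.toMonoidHom = H := by
    apply map_eq_of_le
    intro g hg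
    rw [hH, mem_stabRes] at hg ⊢
    have h1 : t.τ g • x = t.θ (g • x) := by rw [t.θ_smul, hx]
    rw [h1]
    have h2 := t.θ_mem_Res hJ hg
    rwa [hx] at h2
  obtain ⟨g, rfl⟩ := hG x y
  have h1 : g⁻¹ * t.τ g ∈ (pPrimeCore 2 H).map H.subtype := hR.sub hc ho hinv hy
  have h2 : ∀ r ∈ (pPrimeCore 2 H).map H.subtype, r • x = x := by
    apply odd_core_fix (S := S) hp2 hth hU
    · rw [Subgroup.card_map_of_injective H.subtype_injective]
      exact Lib.Cores.pPrimeCore_coprime 2
    · rintro u hu _ ⟨r, hr, rfl⟩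
      exact ⟨_, (Lib.Cores.pPrimeCore_normal (G := H) 2).conj_mem r hr ⟨u, U_le_stabRes hu⟩, rfl⟩
  have h3 := h2 _ h1
  rw [t.θ_smul, hx]
  rw [mul_smul, inv_smul_eq_iff] at h3
  exact h3

/-- `W_J` proper -/
theorem exists_not_mem_WJ [F : Cox cs] {J : Set I} {k : I} (hk : k ∉ J) : cs.simple k ∉ WJ cs J := fun h => by
  apply hk
  refine F.descent_mem J _ h k ?_
  rw [cs.simple_mul_simple_self, cs.length_one, cs.length_simple]
  exact Nat.one_pos

theorem stabRes_ne_top [F : Cox cs] (hth : Δ.Thick) (hG : ∀ x y : C, ∃ g : G, g • x = y) {J : Set I} {k : I}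
    (hk : k ∉ J) (x : C) : stabRes S J x ≠ ⊤ := by
  intro h
  obtain ⟨z, -, -, hz, -⟩ := hth x k
  obtain ⟨g, hg⟩ := hG x z
  have h1 : g ∈ stabRes S J x := h ▸ Subgroup.mem_top g
  rw [mem_stabRes, hg, mem_Res, hz] at h1
  exact exists_not_mem_WJ hk h1

/-- the type permutation preserves the Coxeter matrix -/
theorem σ_M [Fintype I] [DecidableEq I] [Finite W] (t : Tw Δ G) (i j : I) : M (t.σ i) (t.σ j) = M i j := by
  rw [← LieRecognition.CoxForm.orderOf_eq cs, ← LieRecognition.CoxForm.orderOf_eq cs, ← t.φ_simple, ← t.φ_simple,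
    ← map_mul, MulEquiv.orderOf_eq]

/-- the order of the type permutation -/
theorem σ_pow [F : Cox cs] (t : Tw Δ G) {n : ℕ} (hn : t.θ ^ n = 1) (x : C) : t.σ ^ n = 1 := by
  have h1 : ∀ (n : ℕ) (y z : C), Δ.δ ((t.θ ^ n) y) ((t.θ ^ n) z) = (t.φ ^ n : MulAut W) (Δ.δ y z) := by
    intro n
    induction n with
    | zero => intro y z; rfl
    | succ n ih =>
      intro y z
      rw [pow_succ', pow_succ', Equiv.Perm.mul_apply, Equiv.Perm.mul_apply, t.δ_θ, ih, MulAut.mul_apply]
  have h2 : ∀ (n : ℕ) (i : I), (t.φ ^ n : MulAut W) (cs.simple i) = cs.simple ((t.σ ^ n) i) := by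
    intro n
    induction n with
    | zero => intro i; rfl
    | succ n ih =>
      intro i
      rw [pow_succ', pow_succ', MulAut.mul_apply, ih, Equiv.Perm.mul_apply, t.φ_simple]
  ext i
  obtain ⟨y, hy⟩ := Δ.exists_δ x (cs.simple i)
  have h3 := h1 n x y
  rw [hn, hy, h2] at h3
  change Δ.δ x y = _ at h3
  rw [hy] at h3
  exact (F.inj h3).symm

/-- the kernel of the action on the residues of cotype `i` -/
def kerRes (_ : Sys Δ G p) (J : Set I) : Subgroup G where
  carrier := {g | ∀ x, g • x ∈ Δ.Res J x}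
  one_mem' := fun x => by rw [one_smul]; exact Δ.self_mem_Res J x
  mul_mem' := fun {a b} (ha : ∀ x, a • x ∈ Δ.Res J x) (hb : ∀ x, b • x ∈ Δ.Res J x) x => by
    rw [mul_smul]
    exact Δ.mem_Res_trans (hb x) (ha (b • x))
  inv_mem' := fun {a} (ha : ∀ x, a • x ∈ Δ.Res J x) x => by
    have h1 := ha (a⁻¹ • x)
    rw [smul_inv_smul] at h1
    exact Δ.mem_Res_symm h1

theorem mem_kerRes {J : Set I} {g : G} : g ∈ kerRes S J ↔ ∀ x, g • x ∈ Δ.Res J x := Iff.rfl

theorem kerRes_normal (S : Sys Δ G p) (J : Set I) : (kerRes S J).Normal := by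
  constructor
  intro g hg h x
  have h1 := hg (h⁻¹ • x)
  rw [mem_Res, ← S.iso h, smul_inv_smul, ← mem_Res] at h1
  rwa [mul_smul, mul_smul]

/-- a reducible building: the decomposition of `W` -/
theorem mem_or_mem {i : I} (hcomm : ∀ j, i ≠ j → cs.simple i * cs.simple j = cs.simple j * cs.simple i) (w : W) :
    w ∈ WJ cs {i}ᶜ ∨ ∃ v ∈ WJ cs {i}ᶜ, w = cs.simple i * v := by
  have hcv : ∀ v ∈ WJ cs {i}ᶜ, cs.simple i * v = v * cs.simple i := by
    intro v hv
    refine Subgroup.closure_induction (p := fun v _ => cs.simple i * v = v * cs.simple i) ?_ ?_ ?_ ?_ hv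
    · rintro _ ⟨j, hj, rfl⟩
      exact hcomm j fun h => hj h.symm
    · rw [mul_one, one_mul]
    · intro a b _ _ ha hb
      rw [← mul_assoc, ha, mul_assoc, hb, mul_assoc]
    · intro a _ ha
      have h1 : a⁻¹ * (cs.simple i * a) * a⁻¹ = a⁻¹ * (a * cs.simple i) * a⁻¹ := by rw [ha]
      rw [inv_mul_cancel_left, ← mul_assoc, mul_inv_cancel_right] at h1
      exact h1.symm
  induction w using cs.simple_induction_left with
  | one => exact Or.inl (one_mem _)
  | mul_simple_left w j ih =>
    by_cases hij : i = j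
    · subst hij
      rcases ih with h | ⟨v, hv, rfl⟩
      · exact Or.inr ⟨w, h, rfl⟩
      · left
        rw [← mul_assoc, cs.simple_mul_simple_self, one_mul]
        exact hv
    · have hj : cs.simple j ∈ WJ cs {i}ᶜ := simple_mem_WJ fun h => hij h.symm
      rcases ih with h | ⟨v, hv, rfl⟩
      · exact Or.inl (mul_mem hj h)
      · refine Or.inr ⟨cs.simple j * v, mul_mem hj hv, ?_⟩
        rw [← mul_assoc, ← hcomm j hij, mul_assoc]

/-- a reducible building: the elements fixing the `i`-panel of `x` are in the kernel of the cotype `i` residues -/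
theorem mem_kerRes_of_fix {i : I} (hcomm : ∀ j, i ≠ j → cs.simple i * cs.simple j = cs.simple j * cs.simple i)
    {x : C} {u : G} (h : ∀ y ∈ Δ.Pan i x, u • y = y) : u ∈ kerRes S {i}ᶜ := by
  intro z
  have hex : ∃ y ∈ Δ.Pan i x, z ∈ Δ.Res {i}ᶜ y := by
    rcases mem_or_mem hcomm (Δ.δ x z) with h1 | ⟨v, hv, h1⟩
    · exact ⟨x, Δ.self_mem_Pan i x, h1⟩
    · obtain ⟨y, hy1, hy2⟩ := Δ.exists_step z x i
      refine ⟨y, Δ.mem_Pan_of_δ hy1, ?_⟩
      apply Δ.mem_Res_symm
      rw [mem_Res, hy2, Δ.symm x z, h1, mul_inv_rev, cs.inv_simple, mul_assoc, cs.simple_mul_simple_self, mul_one]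
      exact inv_mem hv
  obtain ⟨y, hy, hz⟩ := hex
  have h1 : u • z ∈ Δ.Res {i}ᶜ y := by
    have h2 : Δ.δ (u • y) (u • z) ∈ WJ cs {i}ᶜ := by rw [S.iso]; exact hz
    rw [h y hy] at h2
    exact h2
  exact Δ.mem_Res_trans (Δ.mem_Res_symm hz) h1

/-- **Odd characteristic, rank at least two.** -/
theorem eq_one_of_rank [Finite G] [hs : IsSimpleGroup G] [Finite I] [Finite W] [hf : FaithfulSMul G C]
    [hp : Fact p.Prime] (hp2 : p ≠ 2) (hth : Δ.Thick)
    (hU : UTrans S) (hG : ∀ x y : C, ∃ g : G, g • x = y) (h2 : ∃ i j : I, i ≠ j)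
    (IH : ∀ H : Subgroup G, H ≠ ⊤ → _root_.Cfsg.Agent.H519.CopRed.Res H) (t : Tw Δ G)
    (hc : (orderOf t.τ).Coprime (Nat.card G)) (ho : OddC t.τ) (hθ : t.θ ^ orderOf t.τ = 1) : t.τ = 1 := by
  classical
  have hFI : Fintype I := Fintype.ofFinite I
  have F : Cox cs := inferInstance
  obtain ⟨x0, hx0⟩ := exists_fixed (S := S) hth hU t hc
  obtain ⟨i1, j1, hij1⟩ := h2
  by_cases htr : ∀ i j, t.σ.SameCycle i j
  · exfalso
    -- the order of `τ` is odd
    have h2G : 2 ∣ Nat.card G := by
      have h1 := (even_ncard_pan (S := S) hp2 hth hU x0 i1).trans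
        (ncard_pan_dvd (S := S) (R := ⊤) fun y _ => by
          obtain ⟨g, hg⟩ := hG x0 y
          exact ⟨g, Subgroup.mem_top _, hg⟩)
      rwa [Nat.card_congr Subgroup.topEquiv.toEquiv] at h1
    have hodd : Odd (orderOf t.τ) := by
      rw [← Nat.coprime_two_right]
      exact hc.coprime_dvd_right h2G
    have hσ := σ_pow t hθ x0
    have hcard : Odd (Fintype.card I) := by
      have hcyc : t.σ.IsCycle := by
        refine ⟨i1, ?_, fun j _ => htr i1 j⟩
        intro h1
        obtain ⟨n, hn⟩ := htr i1 j1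
        rw [Equiv.Perm.zpow_apply_eq_self_of_apply_eq_self h1] at hn
        exact hij1 hn
      have hsupp : t.σ.support = Finset.univ := by
        ext i
        simp only [Finset.mem_univ, iff_true, Equiv.Perm.mem_support]
        intro h1
        have h3 : ∀ j, j = i := by
          intro j
          obtain ⟨n, hn⟩ := htr i j
          rw [Equiv.Perm.zpow_apply_eq_self_of_apply_eq_self h1] at hn
          exact hn.symm
        exact hij1 ((h3 i1).trans (h3 j1).symm)
      have h1 := hcyc.orderOf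
      rw [hsupp, Finset.card_univ] at h1
      rw [← h1]
      exact Odd.of_dvd_nat hodd (orderOf_dvd_of_pow_eq_one hσ)
    have hM := CoxTr.no_transitive cs t.σ (σ_M t) htr hcard
    have hcomm : ∀ i j, i ≠ j → cs.simple i * cs.simple j = cs.simple j * cs.simple i := by
      intro i j hij
      have h1 := cs.simple_mul_simple_pow i j
      rw [hM i j hij, pow_two] at h1
      have h3 : cs.simple i * cs.simple j = (cs.simple i * cs.simple j)⁻¹ := eq_inv_of_mul_eq_one_left h1
      rw [mul_inv_rev, cs.inv_simple, cs.inv_simple] at h3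
      exact h3
    apply hij1
    refine type_eq (S := S) hth hU (fun x u hu h1 y _ => ?_) x0
    have hker : kerRes S {i1}ᶜ = ⊥ := by
      rcases (kerRes_normal S {i1}ᶜ).eq_bot_or_eq_top with h3 | h3
      · exact h3
      · exfalso
        obtain ⟨z, -, -, hz, -⟩ := hth x0 i1
        obtain ⟨g, hg⟩ := hG x0 z
        have h4 : g ∈ kerRes S {i1}ᶜ := h3 ▸ Subgroup.mem_top g
        have h5 := h4 x0
        rw [hg, mem_Res, hz] at h5
        exact exists_not_mem_WJ (by simp) h5
    have h3 : u ∈ kerRes S {i1}ᶜ := by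
      refine mem_kerRes_of_fix (hcomm i1) (x := x) fun y hy => ?_
      rcases hy with rfl | hy
      · exact S.fix _ u hu
      · exact h1 y hy
    rw [hker, Subgroup.mem_bot] at h3
    rw [h3, one_smul]
  · refine τ_eq_one t (fix_all (Δ := Δ) t.θ (fun x hx i y hy => ?_) hx0)
    have hex : ∃ k, k ∉ FixOdd.Cox.orb t.σ i := by
      by_contra hcon
      push Not at hcon
      apply htr
      intro a b
      exact (hcon a).symm.trans (hcon b)
    obtain ⟨k, hk⟩ := hex
    refine fix_res (S := S) hp2 hth hU hG t hc ho (J := FixOdd.Cox.orb t.σ i)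
      (fun j hj => FixOdd.Cox.map_mem_orb.2 hj) hx (IH _ (stabRes_ne_top hth hG hk x)) y ?_
    rw [mem_Res, hy]
    exact simple_mem_WJ (FixOdd.Cox.self_mem_orb i)

end Cfsg.Agent.H519.Bld
end

-- part: H519/SplitRes
section
/-!
# Coprime automorphisms with commutators of odd order: groups with a split (B,N)-pair

* `eq_one_two` : characteristic two;
* `eq_one_rank` : odd characteristic and rank at least two (for simple groups, with the induction hypothesis).
-/

set_option autoImplicit false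

namespace Cfsg.Agent.H519.SplitRes

open Cfsg Cfsg.Agent.Tits.Core Cfsg.Agent.Tits.OfBN Cfsg.Agent.FixBN Cfsg.Agent.H519.CopRed

theorem utrans {K : Type*} [Group K] [Finite K] {P : Cfsg.BNPair K} {p : ℕ} [Fact p.Prime] {U : Subgroup K}
    [hN : ((P.B ⊓ P.N).subgroupOf P.N).Normal] {I : Type*} {M : CoxeterMatrix I} (e : I ≃ P.S)
    (cs : CoxeterSystem M (WP P))
    (hcs : ∀ i, cs.simple i = QuotientGroup.mk (⟨(e i : K), P.subset (e i).2⟩ : P.N)) (S : Split P p U) :
    Bld.UTrans (OfBN.sys e cs hcs S) := fun _ _ _ h => OfBN.trans S h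

theorem homog {K : Type*} [Group K] {P : Cfsg.BNPair K} (x y : K ⧸ P.B) : ∃ g : K, g • x = y := by
  induction x using QuotientGroup.induction_on with
  | _ a =>
  induction y using QuotientGroup.induction_on with
  | _ b =>
  refine ⟨b * a⁻¹, ?_⟩
  rw [OfBN.smul_mk]
  congr 1
  group

/-- **Characteristic two.** -/
theorem eq_one_two {K : Type*} [Group K] [Finite K] (h : HasSplit 2 K) (α : MulAut K)
    (hc : (orderOf α).Coprime (Nat.card K)) (ho : OddC α) : α = 1 := by
  obtain ⟨P, U, -, h⟩ := h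
  have : Fact (Nat.Prime 2) := ⟨Nat.prime_two⟩
  have hN : ((P.B ⊓ P.N).subgroupOf P.N).Normal := normal_subgroupOf P
  obtain ⟨M, cs, hcs⟩ := S0320.result P
  obtain ⟨t, ht, hto⟩ := FixOdd.exists_tw h (Equiv.refl P.S) cs hcs α
  have hI : Finite P.S := OfBN.finite_I (Equiv.refl P.S)
  have hth := thick P (Equiv.refl P.S) cs hcs
  have hf : FaithfulSMul K (K ⧸ P.B) := faithful P h.core
  rw [← ht]
  rw [← ht] at hc ho
  exact Bld.eq_one_of_two (S := OfBN.sys (Equiv.refl P.S) cs hcs h) rfl hth (utrans _ cs hcs h) homog t hc ho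
    (hto _ (by rw [ht]; exact pow_orderOf_eq_one α))

/-- **Odd characteristic, rank at least two.** -/
theorem eq_one_rank {K : Type*} [Group K] [Finite K] [IsSimpleGroup K] {p : ℕ} [hp : Fact p.Prime] (hp2 : p ≠ 2)
    {P : Cfsg.BNPair K} {U : Subgroup K} (h : Split P p U) (h2 : ∃ s t : P.S, s ≠ t)
    (IH : ∀ H : Subgroup K, H ≠ ⊤ → Res H) (α : MulAut K)
    (hc : (orderOf α).Coprime (Nat.card K)) (ho : OddC α) : α = 1 := by
  have hN : ((P.B ⊓ P.N).subgroupOf P.N).Normal := normal_subgroupOf P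
  obtain ⟨M, cs, hcs⟩ := S0320.result P
  obtain ⟨t, ht, hto⟩ := FixOdd.exists_tw h (Equiv.refl P.S) cs hcs α
  have hI : Finite P.S := OfBN.finite_I (Equiv.refl P.S)
  have hth := thick P (Equiv.refl P.S) cs hcs
  have hf : FaithfulSMul K (K ⧸ P.B) := faithful P h.core
  rw [← ht]
  rw [← ht] at hc ho
  exact Bld.eq_one_of_rank (S := OfBN.sys (Equiv.refl P.S) cs hcs h) hp2 hth (utrans _ cs hcs h) homog h2 IH t hc ho
    (hto _ (by rw [ht]; exact pow_orderOf_eq_one α))

end Cfsg.Agent.H519.SplitRes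
end
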